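import Mathlib

/-!
# The equation `A P_s(u) - B P_c(u) = e` (helper334, S3482 R9)
-/

set_option autoImplicit false

namespace Cfsg.Agent.H334.E7.NT

/-- `A P7 = B P9 + e` or `A P9 = B P7 + e` : `u - 1 ∣ e`. -/
theorem no79 {u A B e X Y : ℤ} (hu : 8 ≤ u) (he : e = 1 ∨ e = 2) (hX : u - 1 ∣ X) (hY : u - 1 ∣ Y)
    (h : A * X = B * Y + e) : False := by
  have h1 : u - 1 ∣ e := by
    have h2 : e = A * X - B * Y := by linarith
    rw [h2]
    exact dvd_sub (hX.mul_left A) (hY.mul_left B)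
  have h3 := Int.le_of_dvd (by omega) h1
  omega

theorem no1418 {u A B e X Y : ℤ} (hu : 8 ≤ u) (he : e = 1 ∨ e = 2) (hX : u + 1 ∣ X) (hY : u + 1 ∣ Y)
    (h : A * X = B * Y + e) : False := by
  have h1 : u + 1 ∣ e := by
    have h2 : e = A * X - B * Y := by linarith
    rw [h2]
    exact dvd_sub (hX.mul_left A) (hY.mul_left B)
  have h3 := Int.le_of_dvd (by omega) h1
  omega

theorem u4 {u : ℤ} (hu : 8 ≤ u) : 512 * u ≤ u ^ 4 := by
  have h1 : 512 ≤ u ^ 3 := by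
    calc (512 : ℤ) = 8 ^ 3 := by norm_num
      _ ≤ u ^ 3 := pow_le_pow_left₀ (by norm_num) hu 3
  calc 512 * u ≤ u ^ 3 * u := mul_le_mul_of_nonneg_right h1 (by omega)
    _ = u ^ 4 := by ring

theorem u7 {u : ℤ} (hu : 8 ≤ u) : 512 * u ^ 4 ≤ u ^ 7 := by
  have h1 : 512 ≤ u ^ 3 := by
    calc (512 : ℤ) = 8 ^ 3 := by norm_num
      _ ≤ u ^ 3 := pow_le_pow_left₀ (by norm_num) hu 3
  calc 512 * u ^ 4 ≤ u ^ 3 * u ^ 4 := mul_le_mul_of_nonneg_right h1 (by positivity)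
    _ = u ^ 7 := by ring

theorem u6 {u : ℤ} (hu : 8 ≤ u) : 64 * u ^ 4 ≤ u ^ 6 := by
  have h1 : 64 ≤ u ^ 2 := by
    calc (64 : ℤ) = 8 ^ 2 := by norm_num
      _ ≤ u ^ 2 := pow_le_pow_left₀ (by norm_num) hu 2
  calc 64 * u ^ 4 ≤ u ^ 2 * u ^ 4 := mul_le_mul_of_nonneg_right h1 (by positivity)
    _ = u ^ 6 := by ring

/-- `(14, 7)` -/
theorem s147 {u A B e : ℤ} (hu : 8 ≤ u) (he : e = 1 ∨ e = 2) (hB : 0 < B)
    (hB4 : B < u ^ 4) (h : A * (u ^ 7 + 1) = B * (u ^ 7 - 1) + e) : e = 2 ∧ A = 1 := by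
  have h7 := u7 hu
  have h4 := u4 hu
  have h1 : (A - B) * (u ^ 7 + 1) = e - 2 * B := by linarith
  rcases lt_trichotomy A B with h2 | h2 | h2
  · exfalso
    have h3 : (A - B) * (u ^ 7 + 1) ≤ (-1) * (u ^ 7 + 1) := mul_le_mul_of_nonneg_right (by omega) (by linarith)
    rcases he with rfl | rfl <;> linarith
  · subst h2
    rw [sub_self, zero_mul] at h1
    omega
  · exfalso
    have h3 : 1 * (u ^ 7 + 1) ≤ (A - B) * (u ^ 7 + 1) := mul_le_mul_of_nonneg_right (by omega) (by linarith)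
    rcases he with rfl | rfl <;> linarith

/-- `(7, 14)` -/
theorem s714 {u A B e : ℤ} (hu : 8 ≤ u) (he : e = 1 ∨ e = 2) (hB : 0 < B)
    (hB4 : B < u ^ 4) (h : A * (u ^ 7 - 1) = B * (u ^ 7 + 1) + e) : False := by
  have h7 := u7 hu
  have h4 := u4 hu
  have h1 : (A - B) * (u ^ 7 - 1) = e + 2 * B := by linarith
  have h2 : 0 < A - B := by
    by_contra hcon
    push Not at hcon
    have : (A - B) * (u ^ 7 - 1) ≤ 0 := mul_nonpos_of_nonpos_of_nonneg hcon (by linarith)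
    rcases he with rfl | rfl <;> linarith
  have h3 : 1 * (u ^ 7 - 1) ≤ (A - B) * (u ^ 7 - 1) := mul_le_mul_of_nonneg_right (by omega) (by linarith)
  rcases he with rfl | rfl <;> linarith

theorem u2 {u : ℤ} (hu : 8 ≤ u) : 64 * u ^ 2 ≤ u ^ 4 := by
  have h1 : 64 ≤ u ^ 2 := by
    calc (64 : ℤ) = 8 ^ 2 := by norm_num
      _ ≤ u ^ 2 := pow_le_pow_left₀ (by norm_num) hu 2
  calc 64 * u ^ 2 ≤ u ^ 2 * u ^ 2 := mul_le_mul_of_nonneg_right h1 (by positivity)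
    _ = u ^ 4 := by ring

/-- `(18, 9)` -/
theorem s189 {u A B e : ℤ} (hu : 8 ≤ u) (he : e = 1 ∨ e = 2) (hA : 0 < A) (hA4 : A < u ^ 4)
    (h : A * ((u + 1) * (u ^ 6 - u ^ 3 + 1)) = B * ((u - 1) * (u ^ 6 + u ^ 3 + 1)) + e) :
    e = 2 ∧ A = u ^ 2 - u + 1 := by
  have h4 := u4 hu
  have h6 := u6 hu
  have h2 := u2 hu
  have hu4 : 0 < u ^ 4 := by positivity
  have hu3 : 0 ≤ u ^ 3 := by positivity
  have hX : (u - 1) * (u ^ 6 + u ^ 3 + 1) ∣ e * (2 * A - e * (u ^ 2 - u + 1)) := by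
    refine ⟨A * (2 * B - e * (u ^ 2 + u + 1)) - B * (2 * A - e * (u ^ 2 - u + 1)), ?_⟩
    linear_combination (2 * A - e * (u ^ 2 - u + 1)) * (-h) + A * (2 * h)
  have hbig : 7 * (64 * u ^ 4) ≤ (u - 1) * (u ^ 6 + u ^ 3 + 1) := by
    calc 7 * (64 * u ^ 4) ≤ 7 * (u ^ 6 + u ^ 3 + 1) := by linarith
      _ ≤ (u - 1) * (u ^ 6 + u ^ 3 + 1) := mul_le_mul_of_nonneg_right (by omega) (by linarith)
  have h0 : e * (2 * A - e * (u ^ 2 - u + 1)) = 0 := by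
    apply Int.eq_zero_of_abs_lt_dvd hX
    rw [abs_lt]
    rcases he with rfl | rfl
    · constructor <;> nlinarith
    · constructor <;> nlinarith
  rcases he with rfl | rfl
  · exfalso
    have h5 : 2 * A = u * (u - 1) + 1 := by linarith
    have h7 : Even (u * (u - 1)) := Int.even_mul_pred_self u
    obtain ⟨t, ht⟩ := h7
    omega
  · exact ⟨rfl, by linarith⟩

/-- `(9, 18)` -/
theorem s918 {u A B e : ℤ} (hu : 8 ≤ u) (he : e = 1 ∨ e = 2) (hA : 0 < A) (hA4 : A < u ^ 4)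
    (h : A * ((u - 1) * (u ^ 6 + u ^ 3 + 1)) = B * ((u + 1) * (u ^ 6 - u ^ 3 + 1)) + e) : False := by
  have h4 := u4 hu
  have h7 := u7 hu
  have h2 := u2 hu
  have hu4 : 0 < u ^ 4 := by positivity
  have hu2 : 0 ≤ u ^ 2 := by positivity
  have hX : (u + 1) * (u ^ 6 - u ^ 3 + 1) ∣ e * (2 * A + e * (u ^ 2 + u + 1)) := by
    refine ⟨A * (2 * B + e * (u ^ 2 - u + 1)) - B * (2 * A + e * (u ^ 2 + u + 1)), ?_⟩
    linear_combination (2 * A + e * (u ^ 2 + u + 1)) * (-h) + A * (2 * h)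
  have hpos : 0 < e * (2 * A + e * (u ^ 2 + u + 1)) := by rcases he with rfl | rfl <;> nlinarith
  have hle := Int.le_of_dvd hpos hX
  have hbig : u ^ 7 ≤ (u + 1) * (u ^ 6 - u ^ 3 + 1) := by
    have h6 := u6 hu
    have h3 : u ^ 3 ≤ u ^ 4 := pow_le_pow_right₀ (by omega) (by norm_num)
    nlinarith
  rcases he with rfl | rfl <;> nlinarith

/-- the Euclidean algorithm: `P = a Q + R`, `Q = b R + S`, `D R - E Q = ± e` gives `D > E b`, `E S ≥ R - e` -/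
theorem step {D E R Q S b e : ℤ} (hR : e < R) (he : 0 ≤ e) (hQ : Q = b * R + S) (hS : 0 < S)
    (hE : 0 < E) (h : E * Q = D * R - e ∨ E * Q = D * R + e) (hSe : e < S) :
    E * b + 1 ≤ D ∧ R - e ≤ E * S := by
  have hR0 : 0 < R := by linarith
  have h1 : (D - E * b) * R = E * S + e ∨ (D - E * b) * R = E * S - e := by
    rcases h with h | h
    · left; rw [hQ] at h; linarith
    · right; rw [hQ] at h; linarith
  have hES : S ≤ E * S := by nlinarith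
  have h2 : 0 < D - E * b := by
    by_contra hcon
    push Not at hcon
    have h3 : (D - E * b) * R ≤ 0 := mul_nonpos_of_nonpos_of_nonneg hcon hR0.le
    rcases h1 with h1 | h1 <;> linarith
  refine ⟨by omega, ?_⟩
  have h4 : 1 * R ≤ (D - E * b) * R := mul_le_mul_of_nonneg_right (by omega) hR0.le
  rcases h1 with h1 | h1 <;> linarith

/-- size -/
theorem size {u R e E D B a b : ℤ} (hu : 8 ≤ u) (he : e = 1 ∨ e = 2) (hR : u ^ 5 - u ^ 4 ≤ R)
    (ha : u - 1 ≤ a) (hb : u - 1 ≤ b) (hE : 0 < E)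
    (h1 : E * b + 1 ≤ D) (h2 : R - e ≤ E * (u ^ 2 + 1)) (h3 : D * a ≤ B) (hB : B < u ^ 4) : False := by
  have ha0 : 0 < a := by omega
  have hb0 : 0 < b := by omega
  have h4 : E * (u - 1) ≤ D := by
    have : E * (u - 1) ≤ E * b := mul_le_mul_of_nonneg_left hb hE.le
    linarith
  have h5 : E * (u - 1) * (u - 1) ≤ u ^ 4 := by
    calc E * (u - 1) * (u - 1) ≤ D * (u - 1) := mul_le_mul_of_nonneg_right h4 (by omega)
      _ ≤ D * a := mul_le_mul_of_nonneg_left ha (le_trans (mul_nonneg hE.le (by omega)) h4)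
      _ ≤ u ^ 4 := by linarith
  have h6 : (R - e) * ((u - 1) * (u - 1)) ≤ u ^ 4 * (u ^ 2 + 1) := by
    calc (R - e) * ((u - 1) * (u - 1)) ≤ E * (u ^ 2 + 1) * ((u - 1) * (u - 1)) :=
          mul_le_mul_of_nonneg_right h2 (by nlinarith)
      _ = E * (u - 1) * (u - 1) * (u ^ 2 + 1) := by ring
      _ ≤ u ^ 4 * (u ^ 2 + 1) := mul_le_mul_of_nonneg_right h5 (by positivity)
  obtain ⟨t, rfl⟩ : ∃ t, u = t + 8 := ⟨u - 8, by ring⟩
  have ht : 0 ≤ t := by omega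
  have h7 : ((t + 8) ^ 5 - (t + 8) ^ 4 - 2) * ((t + 8 - 1) * (t + 8 - 1)) ≤ (t + 8) ^ 4 * ((t + 8) ^ 2 + 1) := by
    refine le_trans ?_ h6
    apply mul_le_mul_of_nonneg_right
    · rcases he with rfl | rfl <;> linarith
    · nlinarith
  have h8 : 0 < ((t + 8) ^ 5 - (t + 8) ^ 4 - 2) * ((t + 8 - 1) * (t + 8 - 1)) - (t + 8) ^ 4 * ((t + 8) ^ 2 + 1) := by
    ring_nf
    positivity
  linarith

/-- both orders -/
theorem euclid {u A B e P Q R a b : ℤ} (hu : 8 ≤ u) (he : e = 1 ∨ e = 2) (hA : 0 < A) (hB : 0 < B)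
    (hA4 : A < u ^ 4) (hB4 : B < u ^ 4) (ha : u - 1 ≤ a) (hb : u - 1 ≤ b) (hR : u ^ 5 - u ^ 4 ≤ R)
    (hP : P = a * Q + R) (hQ : Q = b * R + (u ^ 2 + 1))
    (h : A * P = B * (P + Q) + e ∨ A * (P + Q) = B * P + e) : False := by
  have h5 : 7 * (64 * 64) ≤ u ^ 5 - u ^ 4 := by
    have h1 : 4096 ≤ u ^ 4 := by
      calc (4096 : ℤ) = 8 ^ 4 := by norm_num
        _ ≤ u ^ 4 := pow_le_pow_left₀ (by norm_num) hu 4
    have h2 : u ^ 5 - u ^ 4 = u ^ 4 * (u - 1) := by ring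
    rw [h2]
    nlinarith
  have he2 : e ≤ 2 := by rcases he with rfl | rfl <;> norm_num
  have he0 : 0 < e := by rcases he with rfl | rfl <;> norm_num
  have hR0 : 2 < R := by linarith
  have hS : 0 < u ^ 2 + 1 := by positivity
  have hS2 : e < u ^ 2 + 1 := by nlinarith
  have hQ0 : R < Q := by
    rw [hQ]
    nlinarith
  have hP0 : 0 < P := by
    rw [hP]
    have : 0 < a * Q := mul_pos (by omega) (by linarith)
    linarith
  rcases h with h | h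
  · obtain ⟨D, hD⟩ : ∃ D, D = A - B := ⟨_, rfl⟩
    have h1 : D * P = B * Q + e := by rw [hD]; linarith
    have hD0 : 0 < D := by
      by_contra hcon
      push Not at hcon
      have h2 : D * P ≤ 0 := mul_nonpos_of_nonpos_of_nonneg hcon hP0.le
      have h3 : 0 < B * Q := mul_pos hB (by linarith)
      linarith
    obtain ⟨E, hE⟩ : ∃ E, E = B - D * a := ⟨_, rfl⟩
    have h2 : E * Q = D * R - e := by
      rw [hE]
      rw [hP] at h1
      linarith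
    have hE0 : 0 < E := by
      by_contra hcon
      push Not at hcon
      have h3 : E * Q ≤ 0 := mul_nonpos_of_nonpos_of_nonneg hcon (by linarith)
      have h4 : 1 * R ≤ D * R := mul_le_mul_of_nonneg_right (by omega) (by linarith)
      linarith
    obtain ⟨h3, h4⟩ := step (by linarith) he0.le hQ hS hE0 (Or.inl h2) hS2
    exact size hu he hR ha hb hE0 h3 h4 (by linarith) hB4
  · obtain ⟨D, hD⟩ : ∃ D, D = B - A := ⟨_, rfl⟩
    have h1 : A * Q = D * P + e := by rw [hD]; linarith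
    have hD0 : 0 < D := by
      by_contra hcon
      push Not at hcon
      have h2 : D * P ≤ 0 := mul_nonpos_of_nonpos_of_nonneg hcon hP0.le
      have h3 : 1 * Q ≤ A * Q := mul_le_mul_of_nonneg_right (by omega) (by linarith)
      linarith
    obtain ⟨E, hE⟩ : ∃ E, E = A - D * a := ⟨_, rfl⟩
    have h2 : E * Q = D * R + e := by
      rw [hE]
      rw [hP] at h1
      linarith
    have hE0 : 0 < E := by
      by_contra hcon
      push Not at hcon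
      have h3 : E * Q ≤ 0 := mul_nonpos_of_nonpos_of_nonneg hcon (by linarith)
      have h4 : 0 < D * R := mul_pos hD0 (by linarith)
      linarith
    obtain ⟨h3, h4⟩ := step (by linarith) he0.le hQ hS hE0 (Or.inr h2) hS2
    exact size hu he hR ha hb hE0 h3 h4 (by linarith) hA4

/-- the polynomials -/
def PZ (u : ℤ) (i : ℕ) : ℤ :=
  if i = 7 then u ^ 7 - 1 else if i = 9 then (u - 1) * (u ^ 6 + u ^ 3 + 1) else if i = 14 then u ^ 7 + 1
  else (u + 1) * (u ^ 6 - u ^ 3 + 1)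

/-- **the equation** -/
theorem main {u A B e : ℤ} (hu : 8 ≤ u) (he : e = 1 ∨ e = 2) (hA : 0 < A) (hB : 0 < B)
    (hA4 : A < u ^ 4) (hB4 : B < u ^ 4) {s c : ℕ} (hs : s = 7 ∨ s = 9 ∨ s = 14 ∨ s = 18)
    (hc : c = 7 ∨ c = 9 ∨ c = 14 ∨ c = 18) (hsc : s ≠ c) (h : A * PZ u s = B * PZ u c + e) :
    e = 2 ∧ (A * PZ u s = u ^ 7 + 1 ∨ A * PZ u s = u ^ 9 + 1) := by
  have p7 : PZ u 7 = u ^ 7 - 1 := rfl
  have p9 : PZ u 9 = (u - 1) * (u ^ 6 + u ^ 3 + 1) := rfl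
  have p14 : PZ u 14 = u ^ 7 + 1 := rfl
  have p18 : PZ u 18 = (u + 1) * (u ^ 6 - u ^ 3 + 1) := rfl
  have d7 : u - 1 ∣ PZ u 7 := ⟨u ^ 6 + u ^ 5 + u ^ 4 + u ^ 3 + u ^ 2 + u + 1, by rw [p7]; ring⟩
  have d9 : u - 1 ∣ PZ u 9 := ⟨_, p9⟩
  have d14 : u + 1 ∣ PZ u 14 := ⟨u ^ 6 - u ^ 5 + u ^ 4 - u ^ 3 + u ^ 2 - u + 1, by rw [p14]; ring⟩
  have d18 : u + 1 ∣ PZ u 18 := ⟨_, p18⟩
  have hu2 : 0 ≤ u ^ 2 - 2 * u - 1 := by nlinarith
  have hu4 : 0 ≤ u ^ 4 := by positivity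
  have hR1 : u ^ 5 - u ^ 4 ≤ u ^ 5 + u ^ 4 - u ^ 2 - 2 * u - 1 := by
    have h2 := u2 hu
    nlinarith
  have hR2 : u ^ 5 - u ^ 4 ≤ u ^ 5 - u ^ 4 + u ^ 2 - 2 * u + 1 := by nlinarith
  have hP1 : u ^ 7 - 1 = u * (u ^ 6 - u ^ 4 - u ^ 3 + u + 2) + (u ^ 5 + u ^ 4 - u ^ 2 - 2 * u - 1) := by ring
  have hQ1 : u ^ 6 - u ^ 4 - u ^ 3 + u + 2 = (u - 1) * (u ^ 5 + u ^ 4 - u ^ 2 - 2 * u - 1) + (u ^ 2 + 1) := by ring
  have hP2 : (u - 1) * (u ^ 6 + u ^ 3 + 1) = (u - 1) * (u ^ 6 - u ^ 4 + u ^ 3 - u + 2) +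
      (u ^ 5 - u ^ 4 + u ^ 2 - 2 * u + 1) := by ring
  have hQ2 : u ^ 6 - u ^ 4 + u ^ 3 - u + 2 = (u + 1) * (u ^ 5 - u ^ 4 + u ^ 2 - 2 * u + 1) + (u ^ 2 + 1) := by ring
  rcases hs with rfl | rfl | rfl | rfl <;> rcases hc with rfl | rfl | rfl | rfl
  · exact absurd rfl hsc
  · exact (no79 hu he d7 d9 h).elim
  · rw [p7, p14] at h
    exact (s714 hu he hB hB4 h).elim
  · rw [p7, p18] at h
    refine (euclid hu he hA hB hA4 hB4 (by omega) le_rfl hR1 hP1 hQ1 (Or.inl ?_)).elim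
    rw [h]
    ring
  · exact (no79 hu he d9 d7 h).elim
  · exact absurd rfl hsc
  · rw [p9, p14] at h
    refine (euclid hu he hA hB hA4 hB4 le_rfl (by omega) hR2 hP2 hQ2 (Or.inl ?_)).elim
    rw [h]
    ring
  · rw [p9, p18] at h
    exact (s918 hu he hA hA4 h).elim
  · rw [p14, p7] at h
    obtain ⟨rfl, rfl⟩ := s147 hu he hB hB4 h
    exact ⟨rfl, Or.inl (by rw [p14, one_mul])⟩
  · rw [p14, p9] at h
    refine (euclid hu he hA hB hA4 hB4 le_rfl (by omega) hR2 hP2 hQ2 (Or.inr ?_)).elim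
    rw [← h]
    ring
  · exact absurd rfl hsc
  · exact (no1418 hu he d14 d18 h).elim
  · rw [p18, p7] at h
    refine (euclid hu he hA hB hA4 hB4 (by omega) le_rfl hR1 hP1 hQ1 (Or.inr ?_)).elim
    rw [← h]
    ring
  · rw [p18, p9] at h
    obtain ⟨rfl, rfl⟩ := s189 hu he hA hA4 h
    exact ⟨rfl, Or.inr (by rw [p18]; ring)⟩
  · exact (no1418 hu he d18 d14 h).elim
  · exact absurd rfl hsc

end Cfsg.Agent.H334.E7.NT
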