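import Cfsg.Agent.H334.E7.Size
import Cfsg.Agent.H334.E7.Facts
import Cfsg.Agent.H267.E7R.Tools
import Cfsg.Agent.H436.Names

/-!
# S3482: the row `E₇(u)` (helper334)
-/

set_option autoImplicit false

namespace Cfsg.Agent.H334.E7.Row

open Cfsg Cfsg.Agent.H436 Cfsg.Agent.H962.E7 Cfsg.Agent.H267.E7R
open Cfsg.Agent.H334.E7.Facts Cfsg.Agent.H334.E7.NT Cfsg.Agent.H334.E7.Lay Cfsg.Agent.H334.E7.Size

universe u'

variable {p k u : ℕ} {S : Type u'} [Group S]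

theorem c4_c8 {i : ℕ} (hi : i ∈ C4) : i ∈ C8 := by
  rcases mem_c4 hi with rfl | rfl | rfl | rfl <;> decide

/-- the class of a prime of the classes 7, 9, 14, 18 -/
theorem cls (R : Row p k S) (U : UFacts S u) (hu : 2 ≤ u) {i r : ℕ} (hi : i ∈ C4) (F : Fl S (p ^ k) i)
    (hr : Prim (p ^ k) i r) :
    (∃ c ∈ C4, Prim u c r ∧ TT u c ∣ TT (p ^ k) i ∧ NN (p ^ k) i ∣ TT u c) ∨
      ((u - 1) / Nat.gcd 2 (u - 1) ∣ TT (p ^ k) i ∧ (u + 1) / Nat.gcd 2 (u - 1) ∣ TT (p ^ k) i) := by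
  have hq := q_two R
  have h8 := Cfsg.Agent.H824.E7.Facts.gt_eight (by omega) hr (c4_c8 hi)
  rcases U.adj r hr.prime h8 (F.dvd r hr) with ⟨c, hc, h⟩ | ⟨⟨x, hx, hx'⟩, ⟨y, hy, hy'⟩⟩
  · refine Or.inl ⟨c, hc, h, ?_, ?_⟩
    · obtain ⟨x, hx⟩ := U.elt c hc
      rw [← hx]
      exact R.tor i hi x r hr (by rw [hx]; exact prim_dvd_tt hu hc h)
    · obtain ⟨x, hx⟩ := F.elt hi
      rw [← hx]
      exact U.tor c hc x r h (by rw [hx]; exact prim_dvd_nn hq hi hr)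
  · exact Or.inr ⟨hx'.trans (R.tor i hi x r hr hx), hy'.trans (R.tor i hi y r hr hy)⟩

/-- one class of `u` contains primes of one class of `q` only -/
theorem one_class (R : Row p k S) (U : UFacts S u) (hu : 2 ≤ u) {i j r s c : ℕ} (hi : i ∈ C4) (hj : j ∈ C4)
    (hij : i ≠ j) (hr : Prim (p ^ k) i r) (hs : Prim (p ^ k) j s) (hc : c ∈ C4) (h1 : Prim u c r)
    (h2 : Prim u c s) : False := by
  obtain ⟨x, hx⟩ := U.elt c hc
  have hrs : r ≠ s := fun h => hij (hr.unique (h ▸ hs))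
  have h3 : r * s ∣ orderOf x := by
    rw [hx]
    exact Nat.Coprime.mul_dvd_of_dvd_of_dvd ((Nat.coprime_primes hr.prime hs.prime).2 hrs)
      (prim_dvd_tt hu hc h1) (prim_dvd_tt hu hc h2)
  have h4 : orderOf x ≠ 0 := by
    rw [hx]
    exact (tt_pos hu hc).ne'
  exact R.nad i (c4_c8 hi) j (c4_c8 hj) hij r s hr hs ⟨x ^ (orderOf x / (r * s)), orderOf_pow_orderOf_div h4 h3⟩

theorem div_aux {e a T : ℕ} (he : 0 < e) (h1 : e ∣ a) (h2 : a ∣ e * T) : a / e ∣ T := by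
  obtain ⟨b, rfl⟩ := h1
  rw [Nat.mul_div_cancel_left _ he]
  exact Nat.dvd_of_mul_dvd_mul_left he h2

theorem d_sub (hu : 2 ≤ u) {c : ℕ} (hc : c = 7 ∨ c = 9) : (u - 1) / Nat.gcd 2 (u - 1) ∣ TT u c := by
  have hc4 : c ∈ C4 := by rcases hc with rfl | rfl <;> decide
  refine div_aux gcd_pos (Nat.gcd_dvd_right _ _) ?_
  rw [tt_mul (by omega) hc4]
  exact sub_dvd_pn hc

theorem d_add (hu : 2 ≤ u) {c : ℕ} (hc : c = 14 ∨ c = 18) : (u + 1) / Nat.gcd 2 (u - 1) ∣ TT u c := by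
  have hc4 : c ∈ C4 := by rcases hc with rfl | rfl <;> decide
  refine div_aux gcd_pos (gcd_dvd_add (by omega)) ?_
  rw [tt_mul (by omega) hc4]
  exact add_dvd_pn hc

theorem tt_odd (R : Row p k S) {i : ℕ} (hi : i = 14 ∨ i = 18) : ¬ 2 ∣ TT (p ^ k) i := by
  rcases hi with rfl | rfl
  · have := TT14_odd R
    omega
  · have := TT18_odd R
    omega

/-- the clash -/
theorem clash (R : Row p k S) {i j D : ℕ} (hi : i = 14 ∨ i = 18) (hj : j = 7 ∨ j = 9)
    (h1 : D ∣ TT (p ^ k) i) (h2 : D ∣ TT (p ^ k) j) : D = 1 := by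
  by_contra hD
  have hr := Nat.minFac_prime hD
  have hd := Nat.minFac_dvd D
  refine sep (q_two R) hr (fun h => ?_) hi hj (hd.trans h1) (dvd_sub (q_two R) hj (hd.trans h2))
  rw [h] at hd
  exact tt_odd R hi (hd.trans h1)

/-- the parity argument -/
theorem parity {T : ℕ} (hu : 2 ≤ u) (ho : u % 2 = 1) (hT : ¬ 2 ∣ T) (h1 : (u - 1) / Nat.gcd 2 (u - 1) ∣ T)
    (h2 : (u + 1) / Nat.gcd 2 (u - 1) ∣ T) : False := by
  have he : Nat.gcd 2 (u - 1) = 2 := Nat.gcd_eq_left (by omega)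
  rw [he] at h1 h2
  rcases (show u % 4 = 1 ∨ u % 4 = 3 by omega) with h | h
  · exact hT (Dvd.dvd.trans (by omega) h1)
  · exact hT (Dvd.dvd.trans (by omega) h2)

/-- `p = 2` -/
theorem two (R : Row p k S) (U : UFacts S u) (hu : 2 ≤ u) (hv : ¬ p ∣ u) (h2 : p = 2) : False := by
  have hq := q_two R
  have hev := even_of R h2
  have ho : u % 2 = 1 := by rw [h2] at hv; omega
  have he : Nat.gcd 2 (u - 1) = 2 := Nat.gcd_eq_left (by omega)
  have odd : ∀ i ∈ C4, ¬ 2 ∣ TT (p ^ k) i := by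
    intro i hi h
    have key : ∀ j, (j = 7 ∨ j = 9) → ¬ 2 ∣ TT (p ^ k) j := by
      intro j hj h
      have h3 := dvd_sub hq hj h
      have h4 : 2 ∣ (p ^ k) ^ j := Dvd.dvd.trans (by omega) (dvd_pow_self (p ^ k) (by omega))
      have h5 : 1 ≤ (p ^ k) ^ j := Nat.one_le_pow _ _ (by omega)
      omega
    rcases mem_c4 hi with rfl | rfl | rfl | rfl
    · exact key 7 (Or.inl rfl) h
    · exact key 9 (Or.inr rfl) h
    · exact tt_odd R (Or.inl rfl) h
    · exact tt_odd R (Or.inr rfl) h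
  have cl : ∀ i ∈ C4, ∀ r, Prim (p ^ k) i r → ∃ c ∈ C4, Prim u c r ∧ (if u % 4 = 1 then c = 14 ∨ c = 18 else c = 7 ∨ c = 9) := by
    intro i hi r hr
    rcases cls R U hu hi (R.even h2 i hi) hr with ⟨c, hc, h3, h4, -⟩ | ⟨h3, h4⟩
    · refine ⟨c, hc, h3, ?_⟩
      split_ifs with h
      · by_contra hcon
        have h5 : c = 7 ∨ c = 9 := by have := mem_c4 hc; omega
        have h6 := d_sub hu h5
        rw [he] at h6
        exact odd i hi (Dvd.dvd.trans (by omega) (h6.trans h4))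
      · by_contra hcon
        have h5 : c = 14 ∨ c = 18 := by have := mem_c4 hc; omega
        have h6 := d_add hu h5
        rw [he] at h6
        exact odd i hi (Dvd.dvd.trans (by omega) (h6.trans h4))
    · exact (parity hu ho (odd i hi) h3 h4).elim
  obtain ⟨r1, hr1⟩ := prim7 R
  obtain ⟨r2, hr2⟩ := prim9 R
  obtain ⟨r3, hr3⟩ := prim14 R
  obtain ⟨c1, hc1, k1, m1⟩ := cl 7 (by decide) r1 hr1
  obtain ⟨c2, hc2, k2, m2⟩ := cl 9 (by decide) r2 hr2
  obtain ⟨c3, hc3, k3, m3⟩ := cl 14 (by decide) r3 hr3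
  have n12 : c1 ≠ c2 := by
    rintro rfl
    exact one_class R U hu (by decide) (by decide) (by norm_num) hr1 hr2 hc1 k1 k2
  have n13 : c1 ≠ c3 := by
    rintro rfl
    exact one_class R U hu (by decide) (by decide) (by norm_num) hr1 hr3 hc1 k1 k3
  have n23 : c2 ≠ c3 := by
    rintro rfl
    exact one_class R U hu (by decide) (by decide) (by norm_num) hr2 hr3 hc2 k2 k3
  split_ifs at m1 m2 m3 <;> omega

theorem tt7 {q : ℕ} (hq : 2 ≤ q) (he : Nat.gcd 2 (q - 1) = 2) : 2 * TT q 7 + 1 = q ^ 7 := by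
  have h := tt_mul (u := q) (by omega) (show 7 ∈ C4 by decide)
  rw [he] at h
  have : 1 ≤ q ^ 7 := Nat.one_le_pow _ _ (by omega)
  change 2 * TT q 7 = q ^ 7 - 1 at h
  omega

theorem tt14 {q : ℕ} (hq : 2 ≤ q) (he : Nat.gcd 2 (q - 1) = 2) : 2 * TT q 14 = q ^ 7 + 1 := by
  have h := tt_mul (u := q) (by omega) (show 14 ∈ C4 by decide)
  rw [he] at h
  exact h

theorem tt9 {q : ℕ} (hq : 2 ≤ q) (he : Nat.gcd 2 (q - 1) = 2) : (q ^ 2 + q + 1) * (2 * TT q 9) + 1 = q ^ 9 := by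
  have h := tt_mul (u := q) (by omega) (show 9 ∈ C4 by decide)
  rw [he] at h
  rw [h]
  change (q ^ 2 + q + 1) * ((q - 1) * (q ^ 6 + q ^ 3 + 1)) + 1 = q ^ 9
  obtain ⟨t, rfl⟩ : ∃ t, q = t + 1 := ⟨q - 1, by omega⟩
  rw [Nat.add_sub_cancel]
  ring

theorem tt18 {q : ℕ} (hq : 2 ≤ q) (he : Nat.gcd 2 (q - 1) = 2) : (q ^ 2 - q + 1) * (2 * TT q 18) = q ^ 9 + 1 := by
  have h := tt_mul (u := q) (by omega) (show 18 ∈ C4 by decide)
  rw [he] at h
  rw [h]
  change (q ^ 2 - q + 1) * ((q + 1) * (q ^ 6 - q ^ 3 + 1)) = q ^ 9 + 1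
  have hle : q ^ 3 ≤ q ^ 6 := Nat.pow_le_pow_right (by omega) (by norm_num)
  have hle' : q ≤ q ^ 2 := Nat.le_self_pow (by norm_num) q
  zify [hle, hle']
  ring

/-- the end of the argument -/
theorem fin_eq {q s c A B n : ℕ} (hu : 8 ≤ u) (hs : s ∈ C4) (hc : c ∈ C4) (hsc : s ≠ c)
    (hA : 0 < A) (hB : 0 < B) (hA4 : A < u ^ 4) (hB4 : B < u ^ 4)
    (h : A * TT u s = B * TT u c + 1) (hn : 2 * (A * TT u s) = q ^ n + 1) : q ^ n = u ^ 7 ∨ q ^ n = u ^ 9 := by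
  have h1 := tt_mul (u := u) (by omega) hs
  have h2 := tt_mul (u := u) (by omega) hc
  obtain ⟨e, he⟩ : ∃ e, Nat.gcd 2 (u - 1) = e := ⟨_, rfl⟩
  have he12 := gcd_cases u
  rw [he] at h1 h2 he12
  have h3 : A * PN u s = B * PN u c + e := by
    rw [← h1, ← h2]
    calc A * (e * TT u s) = e * (A * TT u s) := by ring
      _ = e * (B * TT u c + 1) := by rw [h]
      _ = _ := by ring
  have h4 : (A : ℤ) * PZ (u : ℤ) s = (B : ℤ) * PZ (u : ℤ) c + (e : ℤ) := by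
    rw [← pn_cast (by omega) hs, ← pn_cast (by omega) hc]
    exact_mod_cast h3
  have h5 := NT.main (u := (u : ℤ)) (A := (A : ℤ)) (B := (B : ℤ)) (e := (e : ℤ)) (by exact_mod_cast hu)
    (by rcases he12 with h | h <;> rw [h] <;> simp) (by exact_mod_cast hA) (by exact_mod_cast hB)
    (by exact_mod_cast hA4) (by exact_mod_cast hB4) (mem_c4 hs) (mem_c4 hc) hsc h4
  obtain ⟨he2, h6⟩ := h5
  have he2' : e = 2 := by exact_mod_cast he2
  rw [← pn_cast (by omega) hs] at h6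
  have h7 : A * PN u s = q ^ n + 1 := by
    rw [← h1, he2', ← hn]; ring
  rcases h6 with h6 | h6
  · left
    have : A * PN u s = u ^ 7 + 1 := by exact_mod_cast h6
    omega
  · right
    have : A * PN u s = u ^ 9 + 1 := by exact_mod_cast h6
    omega

theorem q_ge (R : Row p k S) (h2 : p ≠ 2) : 13 ≤ p ^ k := by
  have h1 : 13 ≤ p := by rcases R.cas with h | h | h <;> omega
  calc 13 ≤ p := h1
    _ = p ^ 1 := (pow_one p).symm
    _ ≤ p ^ k := Nat.pow_le_pow_right (by omega) R.hk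

/-- `w₁₄` and `w₁₈` are isolated -/
theorem isol (R : Row p k S) (U : UFacts S u) (hu : 2 ≤ u) (h2 : p ≠ 2) {i r : ℕ} (hi : i = 14 ∨ i = 18)
    (hr : Prim (p ^ k) i r) :
    ∃ c ∈ C4, Prim u c r ∧ TT u c ∣ TT (p ^ k) i ∧ NN (p ^ k) i ∣ TT u c := by
  have hi4 : i ∈ C4 := by rcases hi with rfl | rfl <;> decide
  have hFl : Fl S (p ^ k) i := R.top i (by rcases hi with rfl | rfl <;> decide)
  rcases cls R U hu hi4 hFl hr with h | ⟨h3, h4⟩
  · exact h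
  exfalso
  rcases Nat.mod_two_eq_zero_or_one u with hev | ho
  swap
  · exact parity hu ho (tt_odd R hi) h3 h4
  have he : Nat.gcd 2 (u - 1) = 1 := gcd_two_even hev hu
  have hq13 := q_ge R h2
  -- the other prime
  obtain ⟨j, s, hj, hFj, hs⟩ : ∃ j s, (j = 7 ∨ j = 9) ∧ Fl S (p ^ k) j ∧ Prim (p ^ k) j s := by
    rcases R.one 7 (by decide) 9 (by decide) (by norm_num) with h | h
    · obtain ⟨s, hs⟩ := prim7 R
      exact ⟨7, s, Or.inl rfl, h, hs⟩
    · obtain ⟨s, hs⟩ := prim9 R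
      exact ⟨9, s, Or.inr rfl, h, hs⟩
  have hj4 : j ∈ C4 := by rcases hj with rfl | rfl <;> decide
  rcases cls R U hu hj4 hFj hs with ⟨c, hc, h5, h6, h7⟩ | ⟨-, h6⟩
  · have hc' : c = 7 ∨ c = 9 := by
      by_contra hcon
      have hc' : c = 14 ∨ c = 18 := by have := mem_c4 hc; omega
      have := clash R hi hj h4 ((d_add hu hc').trans h6)
      rw [he, Nat.div_one] at this
      omega
    have h8 := clash R hi hj h3 ((d_sub hu hc').trans h6)
    rw [he, Nat.div_one] at h8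
    have hu2 : u = 2 := by omega
    have h9 := small_tt u (by omega) c hc
    have h10 := Nat.le_of_dvd (tt_pos hu hc) h7
    obtain ⟨q, hq⟩ : ∃ q, p ^ k = q := ⟨_, rfl⟩
    rw [hq] at h10 hq13
    have h11 := pn_le (q := q) (by omega) hj4
    obtain ⟨t, rfl⟩ : ∃ t, q = t + 1 := ⟨q - 1, by omega⟩
    have h12 : 13 ^ 6 ≤ (t + 1) ^ 6 := Nat.pow_le_pow_left hq13 6
    rcases hj with rfl | rfl
    · change (t + 1) ^ 7 - 1 ≤ NN (t + 1) 7 * (t * 7) at h11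
      have h13 : NN (t + 1) 7 * (t * 7) ≤ 469228 * (t * 7) := Nat.mul_le_mul_right _ (h10.trans h9)
      have h14 : 4826809 * (t + 1) ≤ (t + 1) ^ 7 := by
        calc 4826809 * (t + 1) = 13 ^ 6 * (t + 1) := by norm_num
          _ ≤ (t + 1) ^ 6 * (t + 1) := Nat.mul_le_mul_right _ h12
          _ = (t + 1) ^ 7 := by ring
      omega
    · change t * ((t + 1) ^ 6 + (t + 1) ^ 3 + 1) ≤ NN (t + 1) 9 * (t * 3) at h11
      have h13 : NN (t + 1) 9 * (t * 3) ≤ 469228 * (t * 3) := Nat.mul_le_mul_right _ (h10.trans h9)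
      have h14 : t * 4826809 ≤ t * ((t + 1) ^ 6 + (t + 1) ^ 3 + 1) := by
        refine Nat.mul_le_mul_left _ ?_
        calc 4826809 = 13 ^ 6 := by norm_num
          _ ≤ (t + 1) ^ 6 := h12
          _ ≤ _ := by omega
      omega
  · have := clash R hi hj h4 h6
    rw [he, Nat.div_one] at this
    omega

theorem core (R : Row p k S) (U : UFacts S u) (hu : 2 ≤ u) (hv : ¬ p ∣ u) : False := by
  by_cases h2 : p = 2
  · exact two R U hu hv h2
  have hq13 := q_ge R h2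
  have hqm := gcd_two_eq (q_mod R h2)
  obtain ⟨r, hr⟩ := prim14 R
  obtain ⟨s, hs⟩ := prim18 R
  obtain ⟨a, ha, ka, ta, na⟩ := isol R U hu h2 (Or.inl rfl) hr
  obtain ⟨b, hb, kb, tb, nb⟩ := isol R U hu h2 (Or.inr rfl) hs
  have hN14 : NN (p ^ k) 14 ≤ TT u a := Nat.le_of_dvd (tt_pos hu ha) na
  have hN18 : NN (p ^ k) 18 ≤ TT u b := Nat.le_of_dvd (tt_pos hu hb) nb
  have hu8 : 8 ≤ u := u_ge hq13 ha hN14
  -- nonisolated
  have noniso : ∀ j, (j = 7 ∨ j = 9) → (u - 1) / Nat.gcd 2 (u - 1) ∣ TT (p ^ k) j →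
      (u + 1) / Nat.gcd 2 (u - 1) ∣ TT (p ^ k) j → False := by
    intro j hj h3 h4
    have hle : Nat.gcd 2 (u - 1) ≤ 2 := Nat.gcd_le_left _ (by norm_num)
    have hpos : 0 < Nat.gcd 2 (u - 1) := gcd_pos
    obtain ⟨e, he⟩ : ∃ e, Nat.gcd 2 (u - 1) = e := ⟨_, rfl⟩
    have big : ∀ n, 7 ≤ n → n / Nat.gcd 2 (u - 1) ≠ 1 := by
      intro n hn
      rw [he] at hle hpos ⊢
      rcases (show e = 1 ∨ e = 2 by omega) with rfl | rfl <;> omega
    rcases mem_c4 ha with h | h | h | h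
    · exact big (u - 1) (by omega) (clash R (Or.inl rfl) hj ((d_sub hu (Or.inl h)).trans ta) h3)
    · exact big (u - 1) (by omega) (clash R (Or.inl rfl) hj ((d_sub hu (Or.inr h)).trans ta) h3)
    · exact big (u + 1) (by omega) (clash R (Or.inl rfl) hj ((d_add hu (Or.inl h)).trans ta) h4)
    · exact big (u + 1) (by omega) (clash R (Or.inl rfl) hj ((d_add hu (Or.inr h)).trans ta) h4)
  have hpv : ∀ n, 1 ≤ n → ((p ^ k) ^ n = u ^ 7 ∨ (p ^ k) ^ n = u ^ 9) → False := by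
    intro n hn h
    have h1 : p ∣ (p ^ k) ^ n := dvd_pow (dvd_pow_self p (by have := R.hk; omega)) (by omega)
    rcases h with h | h
    · exact hv (R.hp.dvd_of_dvd_pow (h ▸ h1))
    · exact hv (R.hp.dvd_of_dvd_pow (h ▸ h1))
  rcases R.one 7 (by decide) 9 (by decide) (by norm_num) with hF | hF
  · obtain ⟨t, ht⟩ := prim7 R
    rcases cls R U hu (by decide) hF ht with ⟨c, hc, kc, tc, nc⟩ | ⟨h3, h4⟩
    swap
    · exact noniso 7 (Or.inl rfl) h3 h4
    have hac : a ≠ c := by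
      rintro rfl
      exact one_class R U hu (by decide) (by decide) (by norm_num) hr ht ha ka kc
    obtain ⟨X, hX⟩ := ta
    obtain ⟨Y, hY⟩ := tc
    rw [mul_comm] at hX hY
    have e7 := tt7 (q_two R) hqm
    have e14 := tt14 (q_two R) hqm
    have hX2 := x_le (q_two R) hqm (by decide) hX.symm na
    have hY2 := x_le (q_two R) hqm (by decide) hY.symm nc
    have l14 : LL (p ^ k) 14 * ee 14 = (p ^ k + 1) * 7 := rfl
    have l7 : LL (p ^ k) 7 * ee 7 = (p ^ k - 1) * 7 := rfl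
    rw [l14] at hX2
    rw [l7] at hY2
    obtain ⟨q, hq⟩ : ∃ q, p ^ k = q := ⟨_, rfl⟩
    rw [hq] at hX hY e7 e14 hX2 hY2 hN14 hq13
    have hX4 := bound7 (X := X) hq13 hu8 ha hN14 (by omega)
    have hY4 := bound7 (X := Y) hq13 hu8 ha hN14 (by omega)
    have hq7 : 13 ≤ q ^ 7 := hq13.trans (Nat.le_self_pow (by norm_num) q)
    have hX0 : 0 < X := Nat.pos_of_ne_zero fun h => by rw [h, zero_mul] at hX; omega
    have hY0 : 0 < Y := Nat.pos_of_ne_zero fun h => by rw [h, zero_mul] at hY; omega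
    refine hpv 7 (by norm_num) (by rw [hq]; exact fin_eq hu8 ha hc hac hX0 hY0 hX4 hY4 (by omega) (by omega))
  · obtain ⟨t, ht⟩ := prim9 R
    rcases cls R U hu (by decide) hF ht with ⟨c, hc, kc, tc, nc⟩ | ⟨h3, h4⟩
    swap
    · exact noniso 9 (Or.inr rfl) h3 h4
    have hbc : b ≠ c := by
      rintro rfl
      exact one_class R U hu (by decide) (by decide) (by norm_num) hs ht hb kb kc
    obtain ⟨X, hX⟩ := tb
    obtain ⟨Y, hY⟩ := tc
    rw [mul_comm] at hX hY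
    have e9 := tt9 (q_two R) hqm
    have e18 := tt18 (q_two R) hqm
    have hX2 := x_le (q_two R) hqm (by decide) hX.symm nb
    have hY2 := x_le (q_two R) hqm (by decide) hY.symm nc
    have l18 : LL (p ^ k) 18 * ee 18 = (p ^ k + 1) * 3 := rfl
    have l9 : LL (p ^ k) 9 * ee 9 = (p ^ k - 1) * 3 := rfl
    rw [l18] at hX2
    rw [l9] at hY2
    obtain ⟨q, hq⟩ : ∃ q, p ^ k = q := ⟨_, rfl⟩
    rw [hq] at hX hY e9 e18 hX2 hY2 hN18 hq13
    have hle' : q ≤ q ^ 2 := Nat.le_self_pow (by norm_num) q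
    have cub1 : (q ^ 2 - q + 1) * (q + 1) = q ^ 3 + 1 := by
      zify [hle']; ring
    have cub2 : (q ^ 2 + q + 1) * (q - 1) + 1 = q ^ 3 := by
      obtain ⟨t, rfl⟩ : ∃ t, q = t + 1 := ⟨q - 1, by omega⟩
      rw [Nat.add_sub_cancel]; ring
    have hA2 : 2 * ((q ^ 2 - q + 1) * X) ≤ 3 * (q ^ 3 + 1) := by
      calc 2 * ((q ^ 2 - q + 1) * X) = (q ^ 2 - q + 1) * (2 * X) := by ring
        _ ≤ (q ^ 2 - q + 1) * ((q + 1) * 3) := Nat.mul_le_mul_left _ hX2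
        _ = 3 * (q ^ 3 + 1) := by rw [← cub1]; ring
    have hB2 : 2 * ((q ^ 2 + q + 1) * Y) ≤ 3 * (q ^ 3 + 1) := by
      calc 2 * ((q ^ 2 + q + 1) * Y) = (q ^ 2 + q + 1) * (2 * Y) := by ring
        _ ≤ (q ^ 2 + q + 1) * ((q - 1) * 3) := Nat.mul_le_mul_left _ hY2
        _ = 3 * ((q ^ 2 + q + 1) * (q - 1)) := by ring
        _ ≤ 3 * (q ^ 3 + 1) := by omega
    have hA4 := bound9 hq13 hu8 hb hN18 hA2
    have hB4 := bound9 hq13 hu8 hb hN18 hB2
    have hq9 : 13 ≤ q ^ 9 := hq13.trans (Nat.le_self_pow (by norm_num) q)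
    have hX0 : 0 < X := Nat.pos_of_ne_zero fun h => by rw [h, zero_mul] at hX; rw [hX] at e18; simp at e18
    have hY0 : 0 < Y := Nat.pos_of_ne_zero fun h => by rw [h, zero_mul] at hY; rw [hY] at e9; simp at e9; omega
    have e1 : (q ^ 2 - q + 1) * X * TT u b = (q ^ 2 + q + 1) * Y * TT u c + 1 := by
      have f1 : 2 * ((q ^ 2 - q + 1) * X * TT u b) = q ^ 9 + 1 := by
        rw [← e18, hX]; ring
      have f2 : 2 * ((q ^ 2 + q + 1) * Y * TT u c) + 1 = q ^ 9 := by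
        rw [← e9, hY]; ring
      omega
    refine hpv 9 (by norm_num) (by
      rw [hq]
      exact fin_eq hu8 hb hc hbc (Nat.mul_pos (by omega) hX0) (Nat.mul_pos (by positivity) hY0) hA4 hB4 e1
        (by rw [← e18, hX]; ring))

/-- **row `E₇(u)`** -/
theorem row_e7 {p k u : ℕ} {S : Type u'} [Group S] [Finite S] (R : Row p k S) (hg : IsNamed (.e7 u) S)
    (hv : ¬ p ∣ u) : False := by
  obtain ⟨F, _, _, hF, ⟨e⟩⟩ := hg.real
  have h := ufacts F
  rw [hF] at h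
  have hu : 2 ≤ u := by rw [← hF]; exact Fintype.one_lt_card
  refine core R (u := u) ⟨?_, ?_, ?_⟩ hu hv
  · intro i hi x r hr hx
    rw [← MulEquiv.orderOf_eq e] at hx ⊢
    exact h.tor i hi (e x) r hr hx
  · intro i hi
    obtain ⟨x, hx⟩ := h.elt i hi
    exact ⟨e.symm x, by rw [MulEquiv.orderOf_eq, hx]⟩
  · intro r hr h8 hd
    rw [Nat.card_congr e.toEquiv] at hd
    rcases h.adj r hr h8 hd with h1 | ⟨⟨x, hx, hx'⟩, ⟨y, hy, hy'⟩⟩
    · exact Or.inl h1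
    · refine Or.inr ⟨⟨e.symm x, ?_, ?_⟩, ⟨e.symm y, ?_, ?_⟩⟩
      · rw [MulEquiv.orderOf_eq]; exact hx
      · rw [MulEquiv.orderOf_eq]; exact hx'
      · rw [MulEquiv.orderOf_eq]; exact hy
      · rw [MulEquiv.orderOf_eq]; exact hy'

end Cfsg.Agent.H334.E7.Row
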