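import Cfsg.Agent.H378.AdjE7

/-!
# Tori of `E₇` containing the eigenvalue of order `M` and `1` or `-1` (helper334, S3482 R9)

`L_M` : a product of simple reflections; `eig_M_i` : an eigenvector for the eigenvalues of order `i`.
-/

set_option autoImplicit false

namespace Cfsg.Agent.H334.E7.Tab

open Cfsg.Agent.H129.WData Cfsg.Agent.H378.AdjTab Cfsg.Agent.H378.CycTab Cfsg.Agent.H493.PGTorus
open Cfsg.Agent.H378.AdjE7 (Am)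

/-! ### the torus `12` -/

/-- the partial products -/
def L12 : List (Fin 7 × Mat 7) := [
    (0, ![![-1, 0, 0, 0, 0, 0, 0],
        ![0, 1, 0, 0, 0, 0, 0],
        ![1, 0, 1, 0, 0, 0, 0],
        ![0, 0, 0, 1, 0, 0, 0],
        ![0, 0, 0, 0, 1, 0, 0],
        ![0, 0, 0, 0, 0, 1, 0],
        ![0, 0, 0, 0, 0, 0, 1]])]

theorem chain12 : ChainOK Am L12 := by decide +kernel

/-- the eigenvector, index 1 -/
def V12_1 : Fin (0 + 1) → Fin 7 → ℤ := ![![0, 0, 0, 0, 1, 0, 0]]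

/-- the functional -/
def U12_1 : Fin 7 → ℤ := ![0, 0, 0, 0, 1, 0, 0]

theorem eig12_1 : EigOK (hd L12) c1 V12_1 U12_1 := by decide +kernel

/-- the eigenvector, index 2 -/
def V12_2 : Fin (0 + 1) → Fin 7 → ℤ := ![![-1, 0, 0, 0, 0, 0, 0]]

/-- the functional -/
def U12_2 : Fin 7 → ℤ := ![-1, 0, 0, 0, 0, 0, 0]

theorem eig12_2 : EigOK (hd L12) c2 V12_2 U12_2 := by decide +kernel

/-! ### the torus `3` -/

/-- the partial products -/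
def L3 : List (Fin 7 × Mat 7) := [
    (3, ![![1, 0, 1, 1, 0, 0, 0],
        ![0, 1, 0, 1, 0, 0, 0],
        ![0, 0, -1, -1, 0, 0, 0],
        ![0, 0, 1, 0, 0, 0, 0],
        ![0, 0, 0, 1, 1, 1, 0],
        ![0, 0, 0, 0, 0, -1, 0],
        ![0, 0, 0, 0, 0, 1, 1]]),
    (2, ![![1, 0, 1, 0, 0, 0, 0],
        ![0, 1, 0, 0, 0, 0, 0],
        ![0, 0, -1, 0, 0, 0, 0],
        ![0, 0, 1, 1, 0, 0, 0],
        ![0, 0, 0, 0, 1, 1, 0],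
        ![0, 0, 0, 0, 0, -1, 0],
        ![0, 0, 0, 0, 0, 1, 1]]),
    (5, ![![1, 0, 0, 0, 0, 0, 0],
        ![0, 1, 0, 0, 0, 0, 0],
        ![0, 0, 1, 0, 0, 0, 0],
        ![0, 0, 0, 1, 0, 0, 0],
        ![0, 0, 0, 0, 1, 1, 0],
        ![0, 0, 0, 0, 0, -1, 0],
        ![0, 0, 0, 0, 0, 1, 1]])]

theorem chain3 : ChainOK Am L3 := by decide +kernel

/-- the eigenvector, index 1 -/
def V3_1 : Fin (0 + 1) → Fin 7 → ℤ := ![![0, -1, 0, 0, 1, 0, -1]]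

/-- the functional -/
def U3_1 : Fin 7 → ℤ := ![0, 0, 0, 0, 0, 0, -1]

theorem eig3_1 : EigOK (hd L3) c1 V3_1 U3_1 := by decide +kernel

/-- the eigenvector, index 2 -/
def V3_2 : Fin (0 + 1) → Fin 7 → ℤ := ![![0, 0, 0, 0, 0, 1, 0]]

/-- the functional -/
def U3_2 : Fin 7 → ℤ := ![0, 0, 0, 0, 0, 1, 0]

theorem eig3_2 : EigOK (hd L3) c2 V3_2 U3_2 := by decide +kernel

/-- the eigenvector, index 3 -/
def V3_3 : Fin (1 + 1) → Fin 7 → ℤ := ![![0, 0, -1, -1, 0, 0, 0],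
      ![0, 0, 0, -1, 0, 0, 0]]

/-- the functional -/
def U3_3 : Fin 7 → ℤ := ![0, 0, -1, 0, 0, 0, 0]

theorem eig3_3 : EigOK (hd L3) c3 V3_3 U3_3 := by decide +kernel

/-! ### the torus `4` -/

/-- the partial products -/
def L4 : List (Fin 7 × Mat 7) := [
    (0, ![![0, 0, 1, 0, 0, 0, 0],
        ![1, 1, 1, 1, 0, 0, 0],
        ![0, 0, 0, 1, 0, 0, 0],
        ![-1, 0, -1, -1, 0, 0, 0],
        ![1, 0, 1, 1, 1, 0, 0],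
        ![0, 0, 0, 0, 0, 1, 0],
        ![0, 0, 0, 0, 0, 0, 1]]),
    (2, ![![1, 0, 1, 0, 0, 0, 0],
        ![0, 1, 1, 1, 0, 0, 0],
        ![0, 0, 0, 1, 0, 0, 0],
        ![0, 0, -1, -1, 0, 0, 0],
        ![0, 0, 1, 1, 1, 0, 0],
        ![0, 0, 0, 0, 0, 1, 0],
        ![0, 0, 0, 0, 0, 0, 1]]),
    (3, ![![1, 0, 0, 0, 0, 0, 0],
        ![0, 1, 0, 1, 0, 0, 0],
        ![0, 0, 1, 1, 0, 0, 0],
        ![0, 0, 0, -1, 0, 0, 0],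
        ![0, 0, 0, 1, 1, 0, 0],
        ![0, 0, 0, 0, 0, 1, 0],
        ![0, 0, 0, 0, 0, 0, 1]])]

theorem chain4 : ChainOK Am L4 := by decide +kernel

/-- the eigenvector, index 1 -/
def V4_1 : Fin (0 + 1) → Fin 7 → ℤ := ![![0, 0, 0, 0, 0, -1, 0]]

/-- the functional -/
def U4_1 : Fin 7 → ℤ := ![0, 0, 0, 0, 0, -1, 0]

theorem eig4_1 : EigOK (hd L4) c1 V4_1 U4_1 := by decide +kernel

/-- the eigenvector, index 2 -/
def V4_2 : Fin (0 + 1) → Fin 7 → ℤ := ![![1, 0, 0, 1, 0, 0, 0]]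

/-- the functional -/
def U4_2 : Fin 7 → ℤ := ![0, 0, 0, 1, 0, 0, 0]

theorem eig4_2 : EigOK (hd L4) c2 V4_2 U4_2 := by decide +kernel

/-- the eigenvector, index 4 -/
def V4_4 : Fin (1 + 1) → Fin 7 → ℤ := ![![0, 0, -1, -1, 0, 0, 0],
      ![-1, 0, -1, 0, 0, 0, 0]]

/-- the functional -/
def U4_4 : Fin 7 → ℤ := ![0, 0, 0, -1, 0, 0, 0]

theorem eig4_4 : EigOK (hd L4) c4 V4_4 U4_4 := by decide +kernel

/-! ### the torus `5` -/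

/-- the partial products -/
def L5 : List (Fin 7 × Mat 7) := [
    (0, ![![0, 0, 1, 0, 0, 0, 0],
        ![1, 1, 1, 1, 0, 0, 0],
        ![0, 0, 0, 1, 0, 0, 0],
        ![0, 0, 0, 0, 1, 0, 0],
        ![-1, 0, -1, -1, -1, 0, 0],
        ![1, 0, 1, 1, 1, 1, 1],
        ![0, 0, 0, 0, 0, 0, -1]]),
    (2, ![![1, 0, 1, 0, 0, 0, 0],
        ![0, 1, 1, 1, 0, 0, 0],
        ![0, 0, 0, 1, 0, 0, 0],
        ![0, 0, 0, 0, 1, 0, 0],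
        ![0, 0, -1, -1, -1, 0, 0],
        ![0, 0, 1, 1, 1, 1, 1],
        ![0, 0, 0, 0, 0, 0, -1]]),
    (3, ![![1, 0, 0, 0, 0, 0, 0],
        ![0, 1, 0, 1, 0, 0, 0],
        ![0, 0, 1, 1, 0, 0, 0],
        ![0, 0, 0, 0, 1, 0, 0],
        ![0, 0, 0, -1, -1, 0, 0],
        ![0, 0, 0, 1, 1, 1, 1],
        ![0, 0, 0, 0, 0, 0, -1]]),
    (4, ![![1, 0, 0, 0, 0, 0, 0],
        ![0, 1, 0, 0, 0, 0, 0],
        ![0, 0, 1, 0, 0, 0, 0],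
        ![0, 0, 0, 1, 1, 0, 0],
        ![0, 0, 0, 0, -1, 0, 0],
        ![0, 0, 0, 0, 1, 1, 1],
        ![0, 0, 0, 0, 0, 0, -1]]),
    (6, ![![1, 0, 0, 0, 0, 0, 0],
        ![0, 1, 0, 0, 0, 0, 0],
        ![0, 0, 1, 0, 0, 0, 0],
        ![0, 0, 0, 1, 0, 0, 0],
        ![0, 0, 0, 0, 1, 0, 0],
        ![0, 0, 0, 0, 0, 1, 1],
        ![0, 0, 0, 0, 0, 0, -1]])]

theorem chain5 : ChainOK Am L5 := by decide +kernel

/-- the eigenvector, index 1 -/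
def V5_1 : Fin (0 + 1) → Fin 7 → ℤ := ![![2, 5, 4, 6, 3, 0, 0]]

/-- the functional -/
def U5_1 : Fin 7 → ℤ := ![-2, 1, 0, 0, 0, 0, 0]

theorem eig5_1 : EigOK (hd L5) c1 V5_1 U5_1 := by decide +kernel

/-- the eigenvector, index 2 -/
def V5_2 : Fin (0 + 1) → Fin 7 → ℤ := ![![0, 0, 0, 0, 0, 0, 1]]

/-- the functional -/
def U5_2 : Fin 7 → ℤ := ![0, 0, 0, 0, 0, 0, 1]

theorem eig5_2 : EigOK (hd L5) c2 V5_2 U5_2 := by decide +kernel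

/-- the eigenvector, index 5 -/
def V5_5 : Fin (3 + 1) → Fin 7 → ℤ := ![![0, 0, 0, 1, 0, 0, 0],
      ![0, 0, 1, 1, 0, 0, 0],
      ![1, 0, 1, 1, 0, 0, 0],
      ![0, 0, 0, 0, -1, 0, 0]]

/-- the functional -/
def U5_5 : Fin 7 → ℤ := ![0, 0, -1, 1, 0, 0, 0]

theorem eig5_5 : EigOK (hd L5) c5 V5_5 U5_5 := by decide +kernel

/-! ### the torus `6` -/

/-- the partial products -/
def L6 : List (Fin 7 × Mat 7) := [
    (1, ![![1, 0, 1, 0, 0, 0, 0],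
        ![0, 0, 1, 1, 0, 0, 0],
        ![0, 1, 0, 1, 0, 0, 0],
        ![0, 0, 0, 0, 1, 0, 0],
        ![0, -1, -1, -1, -1, 0, 0],
        ![0, 1, 1, 1, 1, 1, 0],
        ![0, 0, 0, 0, 0, 0, 1]]),
    (2, ![![1, 0, 1, 0, 0, 0, 0],
        ![0, 1, 1, 1, 0, 0, 0],
        ![0, 0, 0, 1, 0, 0, 0],
        ![0, 0, 0, 0, 1, 0, 0],
        ![0, 0, -1, -1, -1, 0, 0],
        ![0, 0, 1, 1, 1, 1, 0],
        ![0, 0, 0, 0, 0, 0, 1]]),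
    (3, ![![1, 0, 0, 0, 0, 0, 0],
        ![0, 1, 0, 1, 0, 0, 0],
        ![0, 0, 1, 1, 0, 0, 0],
        ![0, 0, 0, 0, 1, 0, 0],
        ![0, 0, 0, -1, -1, 0, 0],
        ![0, 0, 0, 1, 1, 1, 0],
        ![0, 0, 0, 0, 0, 0, 1]]),
    (4, ![![1, 0, 0, 0, 0, 0, 0],
        ![0, 1, 0, 0, 0, 0, 0],
        ![0, 0, 1, 0, 0, 0, 0],
        ![0, 0, 0, 1, 1, 0, 0],
        ![0, 0, 0, 0, -1, 0, 0],
        ![0, 0, 0, 0, 1, 1, 0],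
        ![0, 0, 0, 0, 0, 0, 1]])]

theorem chain6 : ChainOK Am L6 := by decide +kernel

/-- the eigenvector, index 1 -/
def V6_1 : Fin (0 + 1) → Fin 7 → ℤ := ![![-4, -1, -3, -2, 0, 2, 0]]

/-- the functional -/
def U6_1 : Fin 7 → ℤ := ![0, 1, 0, 0, 0, 1, 0]

theorem eig6_1 : EigOK (hd L6) c1 V6_1 U6_1 := by decide +kernel

/-- the eigenvector, index 2 -/
def V6_2 : Fin (0 + 1) → Fin 7 → ℤ := ![![0, -1, 1, 0, 0, 0, 0]]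

/-- the functional -/
def U6_2 : Fin 7 → ℤ := ![0, 0, 1, 0, 0, 0, 0]

theorem eig6_2 : EigOK (hd L6) c2 V6_2 U6_2 := by decide +kernel

/-- the eigenvector, index 6 -/
def V6_6 : Fin (1 + 1) → Fin 7 → ℤ := ![![0, 0, 0, -1, -1, 0, 0],
      ![0, -1, -1, -1, 0, 0, 0]]

/-- the functional -/
def U6_6 : Fin 7 → ℤ := ![0, 0, 0, 0, -1, 0, 0]

theorem eig6_6 : EigOK (hd L6) c6 V6_6 U6_6 := by decide +kernel

/-! ### the torus `8` -/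

/-- the partial products -/
def L8 : List (Fin 7 × Mat 7) := [
    (2, ![![-1, 0, -1, 0, 0, 0, 0],
        ![0, -1, -1, -1, 0, 0, 0],
        ![1, 0, 1, 1, 0, 0, 0],
        ![0, 1, 1, 1, 1, 0, 0],
        ![0, 0, -1, -1, -1, 0, 0],
        ![0, 0, 1, 1, 1, 1, 0],
        ![0, 0, 0, 0, 0, 0, 1]]),
    (3, ![![-1, 0, 0, 0, 0, 0, 0],
        ![0, -1, 0, -1, 0, 0, 0],
        ![1, 0, 1, 1, 0, 0, 0],
        ![0, 1, 0, 1, 1, 0, 0],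
        ![0, 0, 0, -1, -1, 0, 0],
        ![0, 0, 0, 1, 1, 1, 0],
        ![0, 0, 0, 0, 0, 0, 1]]),
    (1, ![![-1, 0, 0, 0, 0, 0, 0],
        ![0, -1, 0, 0, 0, 0, 0],
        ![1, 0, 1, 0, 0, 0, 0],
        ![0, 1, 0, 1, 1, 0, 0],
        ![0, 0, 0, 0, -1, 0, 0],
        ![0, 0, 0, 0, 1, 1, 0],
        ![0, 0, 0, 0, 0, 0, 1]]),
    (0, ![![-1, 0, 0, 0, 0, 0, 0],
        ![0, 1, 0, 0, 0, 0, 0],
        ![1, 0, 1, 0, 0, 0, 0],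
        ![0, 0, 0, 1, 1, 0, 0],
        ![0, 0, 0, 0, -1, 0, 0],
        ![0, 0, 0, 0, 1, 1, 0],
        ![0, 0, 0, 0, 0, 0, 1]]),
    (4, ![![1, 0, 0, 0, 0, 0, 0],
        ![0, 1, 0, 0, 0, 0, 0],
        ![0, 0, 1, 0, 0, 0, 0],
        ![0, 0, 0, 1, 1, 0, 0],
        ![0, 0, 0, 0, -1, 0, 0],
        ![0, 0, 0, 0, 1, 1, 0],
        ![0, 0, 0, 0, 0, 0, 1]])]

theorem chain8 : ChainOK Am L8 := by decide +kernel

/-- the eigenvector, index 1 -/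
def V8_1 : Fin (0 + 1) → Fin 7 → ℤ := ![![2, 3, 4, 6, 5, 4, 0]]

/-- the functional -/
def U8_1 : Fin 7 → ℤ := ![-1, 1, 0, 0, 0, 0, 0]

theorem eig8_1 : EigOK (hd L8) c1 V8_1 U8_1 := by decide +kernel

/-- the eigenvector, index 2 -/
def V8_2 : Fin (0 + 1) → Fin 7 → ℤ := ![![0, 1, 0, 0, -1, 0, 0]]

/-- the functional -/
def U8_2 : Fin 7 → ℤ := ![0, 0, 0, 0, -1, 0, 0]

theorem eig8_2 : EigOK (hd L8) c2 V8_2 U8_2 := by decide +kernel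

/-- the eigenvector, index 8 -/
def V8_8 : Fin (3 + 1) → Fin 7 → ℤ := ![![0, 1, 1, 1, 1, 0, 0],
      ![0, 0, 0, 1, 0, 0, 0],
      ![1, 0, 1, 0, 0, 0, 0],
      ![-1, 0, 0, 0, 0, 0, 0]]

/-- the functional -/
def U8_8 : Fin 7 → ℤ := ![0, 0, 0, 0, 1, 0, 0]

theorem eig8_8 : EigOK (hd L8) c8 V8_8 U8_8 := by decide +kernel

/-! ### the torus `10` -/

/-- the partial products -/
def L10 : List (Fin 7 × Mat 7) := [
    (6, ![![1, 0, 1, 0, 0, 0, 0],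
        ![0, 0, 1, 1, 1, 0, 0],
        ![0, 1, 0, 1, 1, 0, 0],
        ![0, -1, -1, -1, -1, 0, 0],
        ![0, 1, 1, 1, 1, 1, 1],
        ![0, 0, 0, 0, -1, -1, -1],
        ![0, 0, 0, 0, 1, 1, 0]]),
    (2, ![![1, 0, 1, 0, 0, 0, 0],
        ![0, 0, 1, 1, 1, 0, 0],
        ![0, 1, 0, 1, 1, 0, 0],
        ![0, -1, -1, -1, -1, 0, 0],
        ![0, 1, 1, 1, 1, 1, 0],
        ![0, 0, 0, 0, -1, -1, 0],
        ![0, 0, 0, 0, 1, 1, 1]]),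
    (1, ![![1, 0, 0, 0, 0, 0, 0],
        ![0, 0, 0, 1, 1, 0, 0],
        ![0, 1, 1, 1, 1, 0, 0],
        ![0, -1, 0, -1, -1, 0, 0],
        ![0, 1, 0, 1, 1, 1, 0],
        ![0, 0, 0, 0, -1, -1, 0],
        ![0, 0, 0, 0, 1, 1, 1]]),
    (4, ![![1, 0, 0, 0, 0, 0, 0],
        ![0, 1, 0, 1, 1, 0, 0],
        ![0, 0, 1, 1, 1, 0, 0],
        ![0, 0, 0, -1, -1, 0, 0],
        ![0, 0, 0, 1, 1, 1, 0],
        ![0, 0, 0, 0, -1, -1, 0],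
        ![0, 0, 0, 0, 1, 1, 1]]),
    (3, ![![1, 0, 0, 0, 0, 0, 0],
        ![0, 1, 0, 1, 0, 0, 0],
        ![0, 0, 1, 1, 0, 0, 0],
        ![0, 0, 0, -1, 0, 0, 0],
        ![0, 0, 0, 1, 1, 1, 0],
        ![0, 0, 0, 0, 0, -1, 0],
        ![0, 0, 0, 0, 0, 1, 1]]),
    (5, ![![1, 0, 0, 0, 0, 0, 0],
        ![0, 1, 0, 0, 0, 0, 0],
        ![0, 0, 1, 0, 0, 0, 0],
        ![0, 0, 0, 1, 0, 0, 0],
        ![0, 0, 0, 0, 1, 1, 0],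
        ![0, 0, 0, 0, 0, -1, 0],
        ![0, 0, 0, 0, 0, 1, 1]])]

theorem chain10 : ChainOK Am L10 := by decide +kernel

/-- the eigenvector, index 1 -/
def V10_1 : Fin (0 + 1) → Fin 7 → ℤ := ![![-2, -2, -3, -4, -3, -2, -1]]

/-- the functional -/
def U10_1 : Fin 7 → ℤ := ![0, 0, 0, 0, 0, 0, -1]

theorem eig10_1 : EigOK (hd L10) c1 V10_1 U10_1 := by decide +kernel

/-- the eigenvector, index 2 -/
def V10_2 : Fin (0 + 1) → Fin 7 → ℤ := ![![0, -1, 1, 0, 0, 0, 0]]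

/-- the functional -/
def U10_2 : Fin 7 → ℤ := ![0, 0, 1, 0, 0, 0, 0]

theorem eig10_2 : EigOK (hd L10) c2 V10_2 U10_2 := by decide +kernel

/-- the eigenvector, index 10 -/
def V10_10 : Fin (3 + 1) → Fin 7 → ℤ := ![![0, 0, 0, 1, 1, 1, 1],
      ![0, 1, 1, 1, 0, -1, -1],
      ![0, 0, 0, 0, 1, 2, 1],
      ![0, 0, 0, 0, 0, -1, 0]]

/-- the functional -/
def U10_10 : Fin 7 → ℤ := ![0, -1, 0, 1, 0, 0, 0]

theorem eig10_10 : EigOK (hd L10) c10 V10_10 U10_10 := by decide +kernel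

/-! ### the torus `m12` -/

/-- the partial products -/
def Lm12 : List (Fin 7 × Mat 7) := [
    (0, ![![0, 0, 1, 1, 0, 0, 0],
        ![0, -1, 0, -1, 0, 0, 0],
        ![-1, 0, -1, -1, 0, 0, 0],
        ![1, 1, 1, 2, 1, 0, 0],
        ![0, 0, 0, 0, 0, 1, 0],
        ![0, 0, 0, -1, -1, -1, 0],
        ![0, 0, 0, 1, 1, 1, 1]]),
    (3, ![![1, 0, 1, 1, 0, 0, 0],
        ![0, -1, 0, -1, 0, 0, 0],
        ![0, 0, -1, -1, 0, 0, 0],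
        ![0, 1, 1, 2, 1, 0, 0],
        ![0, 0, 0, 0, 0, 1, 0],
        ![0, 0, 0, -1, -1, -1, 0],
        ![0, 0, 0, 1, 1, 1, 1]]),
    (4, ![![1, 0, 1, 0, 0, 0, 0],
        ![0, -1, 0, 0, 0, 0, 0],
        ![0, 0, -1, 0, 0, 0, 0],
        ![0, 1, 1, 1, 1, 0, 0],
        ![0, 0, 0, 0, 0, 1, 0],
        ![0, 0, 0, 0, -1, -1, 0],
        ![0, 0, 0, 0, 1, 1, 1]]),
    (5, ![![1, 0, 1, 0, 0, 0, 0],
        ![0, -1, 0, 0, 0, 0, 0],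
        ![0, 0, -1, 0, 0, 0, 0],
        ![0, 1, 1, 1, 0, 0, 0],
        ![0, 0, 0, 0, 1, 1, 0],
        ![0, 0, 0, 0, 0, -1, 0],
        ![0, 0, 0, 0, 0, 1, 1]]),
    (1, ![![1, 0, 1, 0, 0, 0, 0],
        ![0, -1, 0, 0, 0, 0, 0],
        ![0, 0, -1, 0, 0, 0, 0],
        ![0, 1, 1, 1, 0, 0, 0],
        ![0, 0, 0, 0, 1, 0, 0],
        ![0, 0, 0, 0, 0, 1, 0],
        ![0, 0, 0, 0, 0, 0, 1]]),
    (2, ![![1, 0, 1, 0, 0, 0, 0],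
        ![0, 1, 0, 0, 0, 0, 0],
        ![0, 0, -1, 0, 0, 0, 0],
        ![0, 0, 1, 1, 0, 0, 0],
        ![0, 0, 0, 0, 1, 0, 0],
        ![0, 0, 0, 0, 0, 1, 0],
        ![0, 0, 0, 0, 0, 0, 1]])]

theorem chainm12 : ChainOK Am Lm12 := by decide +kernel

/-- the eigenvector, index 1 -/
def Vm12_1 : Fin (0 + 1) → Fin 7 → ℤ := ![![-2, -3, -4, -6, -5, -4, -3]]

/-- the functional -/
def Um12_1 : Fin 7 → ℤ := ![1, -1, 0, 0, 0, 0, 0]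

theorem eigm12_1 : EigOK (hd Lm12) c1 Vm12_1 Um12_1 := by decide +kernel

/-- the eigenvector, index 12 -/
def Vm12_12 : Fin (3 + 1) → Fin 7 → ℤ := ![![0, 0, 1, 1, 1, 1, 0],
      ![1, 1, 1, 1, 1, 0, 0],
      ![0, 1, 0, 1, 0, 0, 0],
      ![0, -1, 0, 0, 0, 0, 0]]

/-- the functional -/
def Um12_12 : Fin 7 → ℤ := ![0, 0, 0, 0, 0, 1, 0]

theorem eigm12_12 : EigOK (hd Lm12) c12 Vm12_12 Um12_12 := by decide +kernel

/-! ### the torus `p12` -/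

/-- the partial products -/
def Lp12 : List (Fin 7 × Mat 7) := [
    (6, ![![0, 1, 1, 1, 0, 0, 0],
        ![1, 1, 1, 1, 1, 0, 0],
        ![0, 0, 0, 1, 1, 0, 0],
        ![0, 0, 0, 0, 0, 1, 1],
        ![0, -1, 0, -1, -1, -1, -1],
        ![-1, 0, -1, -1, 0, 0, 0],
        ![1, 1, 1, 2, 1, 1, 0]]),
    (0, ![![0, 1, 1, 1, 0, 0, 0],
        ![1, 1, 1, 1, 1, 0, 0],
        ![0, 0, 0, 1, 1, 0, 0],
        ![0, 0, 0, 0, 0, 1, 0],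
        ![0, -1, 0, -1, -1, -1, 0],
        ![-1, 0, -1, -1, 0, 0, 0],
        ![1, 1, 1, 2, 1, 1, 1]]),
    (5, ![![1, 1, 1, 1, 0, 0, 0],
        ![0, 1, 1, 1, 1, 0, 0],
        ![0, 0, 0, 1, 1, 0, 0],
        ![0, 0, 0, 0, 0, 1, 0],
        ![0, -1, 0, -1, -1, -1, 0],
        ![0, 0, -1, -1, 0, 0, 0],
        ![0, 1, 1, 2, 1, 1, 1]]),
    (3, ![![1, 1, 1, 1, 0, 0, 0],
        ![0, 1, 1, 1, 1, 1, 0],
        ![0, 0, 0, 1, 1, 1, 0],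
        ![0, 0, 0, 0, 0, -1, 0],
        ![0, -1, 0, -1, -1, 0, 0],
        ![0, 0, -1, -1, 0, 0, 0],
        ![0, 1, 1, 2, 1, 1, 1]]),
    (5, ![![1, 1, 1, 1, 0, 0, 0],
        ![0, 1, 1, 2, 1, 1, 0],
        ![0, 0, 0, 0, 1, 1, 0],
        ![0, 0, 0, 0, 0, -1, 0],
        ![0, -1, 0, -1, -1, 0, 0],
        ![0, 0, -1, 0, 0, 0, 0],
        ![0, 1, 1, 1, 1, 1, 1]]),
    (1, ![![1, 1, 1, 1, 0, 0, 0],
        ![0, 1, 1, 2, 1, 0, 0],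
        ![0, 0, 0, 0, 1, 0, 0],
        ![0, 0, 0, 0, 0, 1, 0],
        ![0, -1, 0, -1, -1, -1, 0],
        ![0, 0, -1, 0, 0, 0, 0],
        ![0, 1, 1, 1, 1, 1, 1]]),
    (2, ![![1, 0, 1, 1, 0, 0, 0],
        ![0, 1, 1, 2, 1, 0, 0],
        ![0, 0, 0, 0, 1, 0, 0],
        ![0, 0, 0, 0, 0, 1, 0],
        ![0, 0, 0, -1, -1, -1, 0],
        ![0, 0, -1, 0, 0, 0, 0],
        ![0, 0, 1, 1, 1, 1, 1]]),
    (3, ![![1, 0, 1, 1, 0, 0, 0],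
        ![0, 1, 1, 2, 1, 0, 0],
        ![0, 0, 0, 0, 1, 0, 0],
        ![0, 0, 0, 0, 0, 1, 0],
        ![0, 0, -1, -1, -1, -1, 0],
        ![0, 0, 1, 0, 0, 0, 0],
        ![0, 0, 0, 1, 1, 1, 1]]),
    (4, ![![1, 0, 1, 0, 0, 0, 0],
        ![0, 1, 1, 1, 1, 0, 0],
        ![0, 0, 0, 1, 1, 0, 0],
        ![0, 0, 0, 0, 0, 1, 0],
        ![0, 0, -1, -1, -1, -1, 0],
        ![0, 0, 1, 1, 0, 0, 0],
        ![0, 0, 0, 0, 1, 1, 1]]),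
    (2, ![![1, 0, 1, 0, 0, 0, 0],
        ![0, 1, 1, 1, 0, 0, 0],
        ![0, 0, 0, 1, 0, 0, 0],
        ![0, 0, 0, 0, 1, 1, 0],
        ![0, 0, -1, -1, -1, -1, 0],
        ![0, 0, 1, 1, 1, 0, 0],
        ![0, 0, 0, 0, 0, 1, 1]]),
    (3, ![![1, 0, 0, 0, 0, 0, 0],
        ![0, 1, 0, 1, 0, 0, 0],
        ![0, 0, 1, 1, 0, 0, 0],
        ![0, 0, 0, 0, 1, 1, 0],
        ![0, 0, 0, -1, -1, -1, 0],
        ![0, 0, 0, 1, 1, 0, 0],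
        ![0, 0, 0, 0, 0, 1, 1]]),
    (5, ![![1, 0, 0, 0, 0, 0, 0],
        ![0, 1, 0, 0, 0, 0, 0],
        ![0, 0, 1, 0, 0, 0, 0],
        ![0, 0, 0, 1, 1, 1, 0],
        ![0, 0, 0, 0, -1, -1, 0],
        ![0, 0, 0, 0, 1, 0, 0],
        ![0, 0, 0, 0, 0, 1, 1]]),
    (4, ![![1, 0, 0, 0, 0, 0, 0],
        ![0, 1, 0, 0, 0, 0, 0],
        ![0, 0, 1, 0, 0, 0, 0],
        ![0, 0, 0, 1, 1, 0, 0],
        ![0, 0, 0, 0, -1, 0, 0],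
        ![0, 0, 0, 0, 1, 1, 0],
        ![0, 0, 0, 0, 0, 0, 1]])]

theorem chainp12 : ChainOK Am Lp12 := by decide +kernel

/-- the eigenvector, index 2 -/
def Vp12_2 : Fin (0 + 1) → Fin 7 → ℤ := ![![0, 1, 0, 2, 1, 0, -1]]

/-- the functional -/
def Up12_2 : Fin 7 → ℤ := ![0, 0, 0, 0, 0, 0, -1]

theorem eigp12_2 : EigOK (hd Lp12) c2 Vp12_2 Up12_2 := by decide +kernel

/-- the eigenvector, index 12 -/
def Vp12_12 : Fin (3 + 1) → Fin 7 → ℤ := ![![1, 0, 0, 0, 0, 0, 0],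
      ![-1, 0, -1, -1, -1, -1, 0],
      ![-1, -1, -1, -2, -2, -1, -1],
      ![0, -1, -1, -1, 0, 0, 0]]

/-- the functional -/
def Up12_12 : Fin 7 → ℤ := ![1, 1, -1, 0, 0, 0, -1]

theorem eigp12_12 : EigOK (hd Lp12) c12 Vp12_12 Up12_12 := by decide +kernel

end Cfsg.Agent.H334.E7.Tab
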